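import Cfsg.Agent.FixBN.Gates
import Mathlib
import Cfsg.Agent.FixBN.Fix
import Cfsg.Agent.UGT.U2.FOne.NatJ_m3
import Cfsg.Agent.FixBN.Thin_m3
import Cfsg.Agent.H286.OddNF
import Cfsg.Agent.FixBN.GatesBldg
import Cfsg.Agent.Nodes.LeviDec
import Cfsg.Agent.FastGrp
import Cfsg.Agent.Prune
set_option linter.all false
prune_inst 0x7f00000000000000000000000000000000000000000000000000000000000000000000000000000000000000000000000000000000000000000000000000000000000000000000000000000000000000003fffffffffffffffffffffffffffbeffbdffffffff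
open scoped Cfsg.Agent.FastGrp

-- part: H31/OddGate
section
/-!
# Normal subgroups of odd order and gate systems on the Sylow `p`-subgroups, `p` odd

`GSys.mem_of_odd` : if the Sylow `p`-subgroups of the finite group `H` form a chamber system with gates (`FixBN.Gates`),
`p` is odd and `X` is a normal subgroup of odd order, then a `p`-element of `X` lies in all Sylow `p`-subgroups.
-/

set_option autoImplicit false
set_option linter.unusedSectionVars false

open scoped Pointwise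

namespace Cfsg.Agent.H31.OddGate

open Cfsg.Agent.FixBN.Gates

variable {H : Type*} [Group H] [Finite H] {p : ℕ} [hp : Fact p.Prime]
variable {Pa : Set (Set (Sylow p H))} {d : Sylow p H → Sylow p H → ℕ}

/-- Panels have even cardinality. -/
theorem even_panel (hG : GSys Pa d) (hp2 : p ≠ 2) {S : Set (Sylow p H)} (hS : S ∈ Pa) {c : Sylow p H}
    (hc : c ∈ S) : Even S.ncard := by
  classical
  obtain ⟨b, hb, hbc, -⟩ := hG.three S hS c hc c hc
  have h3 : S \ {c} = MulAction.orbit (c : Subgroup H) b := by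
    ext e
    constructor
    · rintro ⟨he, hec⟩
      obtain ⟨u, hu, huS, hue⟩ := (hG.gate_self hS hc).tr b hb e he hbc hec
      exact ⟨⟨u, hu⟩, hue⟩
    · rintro ⟨⟨u, hu⟩, rfl⟩
      have h2 : u • S = S := hG.self S hS c hc u hu
      constructor
      · show u • b ∈ S
        rw [← h2]
        exact Set.smul_mem_smul_set hb
      · intro h4
        have h5 : u • b = c := h4
        have h6 : u • c = c := smul_self hu
        exact hbc (smul_left_cancel u (h5.trans h6.symm))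
  have h4 : ∃ k, (S \ {c}).ncard = p ^ k := by
    rw [h3]
    exact c.isPGroup'.card_orbit b
  obtain ⟨k, hk⟩ := h4
  have hSf : S.Finite := Set.toFinite S
  have h5 : (S \ {c}).ncard + 1 = S.ncard := Set.ncard_sdiff_singleton_add_one hc hSf
  rw [← h5, hk]
  exact (hp.out.odd_of_ne_two hp2).pow.add_odd odd_one

section

variable {X : Subgroup H} [hX : X.Normal]

include hX in
/-- A `p`-element of a normal subgroup of odd order which stabilises a panel fixes all its members. -/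
theorem smul_eq_of_odd (hG : GSys Pa d) (hp2 : p ≠ 2) (hodd : Odd (Nat.card X)) {S : Set (Sylow p H)}
    (hS : S ∈ Pa) {r : H} (hr : r ∈ X) {e : Sylow p H} (hre : r ∈ e) (hrS : r • S = S) {b : Sylow p H}
    (hb : b ∈ S) : r • b = b := by
  classical
  by_contra hrb
  obtain ⟨c, hc, hg⟩ := hG.gate S hS e
  have hrc : r • c = c := hg.fix r hre hrS
  have hrc' : r ∈ c := mem_of_smul_eq hre hrc
  have hbc : b ≠ c := by
    rintro rfl
    exact hrb hrc
  -- no common fixed points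
  have hA : ∀ b' ∈ S, b' ≠ c → ∃ u ∈ X, u ∈ c ∧ u • b' ≠ b' := by
    intro b' hb' hn
    obtain ⟨u, hu, huS, hub⟩ := (hG.gate_self hS hc).tr b hb b' hb' hbc hn
    refine ⟨u * r * u⁻¹, hX.conj_mem r hr u, mul_mem (mul_mem hu hrc') (inv_mem hu), ?_⟩
    intro h1
    apply hrb
    have h2 : (u * r * u⁻¹) • b' = u • r • b := by
      rw [← hub, mul_smul, mul_smul, inv_smul_smul]
    rw [h2, ← hub] at h1
    exact smul_left_cancel u h1
  have hB : ∀ c' ∈ S, ∀ b' ∈ S, b' ≠ c' → ∃ u ∈ X, u ∈ c' ∧ u • b' ≠ b' := by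
    intro c' hc' b' hb' hn
    by_cases hcc : c' = c
    · rw [hcc] at hn ⊢
      exact hA b' hb' hn
    obtain ⟨f, hf, hf1, hf2⟩ := hG.three S hS c hc c' hc'
    obtain ⟨g, hg, hgS, hgc⟩ := (hG.gate_self hS hf).tr c hc c' hc' (Ne.symm hf1) (Ne.symm hf2)
    have hgS' : g⁻¹ • S = S := by rw [inv_smul_eq_iff, hgS]
    have h1 : g⁻¹ • b' ∈ S := by
      rw [← hgS']
      exact Set.smul_mem_smul_set hb'
    obtain ⟨u, hu, huc, hub⟩ := hA _ h1 (by
      intro h2
      apply hn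
      rw [← hgc, ← h2, smul_inv_smul])
    refine ⟨g * u * g⁻¹, hX.conj_mem u hu g, ?_, ?_⟩
    · rw [← hgc, mem_smul_iff]
      have : g⁻¹ * (g * u * g⁻¹) * g = u := by group
      rwa [this]
    · intro h2
      apply hub
      rw [mul_smul, mul_smul] at h2
      have h3 := congrArg (fun z => g⁻¹ • z) h2
      simpa using h3
  -- the stabiliser in `X`
  obtain ⟨RS, hRS⟩ : ∃ RS : Subgroup H, RS = X ⊓ MulAction.stabilizer H S := ⟨_, rfl⟩
  have hmem : ∀ {u : H}, u ∈ RS ↔ u ∈ X ∧ u • S = S := by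
    intro u
    rw [hRS]
    rfl
  have horbS : ∀ b' ∈ S, ∀ x ∈ MulAction.orbit RS b', x ∈ S := by
    rintro b' hb' _ ⟨u, rfl⟩
    have h1 := (hmem.1 u.2).2
    change (u : H) • b' ∈ S
    rw [← h1]
    exact Set.smul_mem_smul_set hb'
  -- the orbits
  have hmod : ∀ c' ∈ S, ∀ b' ∈ S, ∀ P : Subgroup RS, P = (c' : Subgroup H).subgroupOf RS →
      Nat.card (MulAction.orbit RS b') ≡ Nat.card (MulAction.fixedPoints P (MulAction.orbit RS b')) [MOD p] := by
    intro c' hc' b' hb' P hP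
    have h1 : IsPGroup p P := by
      rw [hP]
      exact c'.isPGroup'.comap_of_injective RS.subtype RS.subtype_injective
    exact h1.card_modEq_card_fixedPoints _
  have hfix : ∀ c' ∈ S, ∀ b' ∈ S, ∀ x : MulAction.orbit RS b',
      x ∈ MulAction.fixedPoints ((c' : Subgroup H).subgroupOf RS) (MulAction.orbit RS b') → (x : Sylow p H) = c' := by
    intro c' hc' b' hb' x hx
    by_contra hne
    obtain ⟨u, huX, huc, hux⟩ := hB c' hc' x (horbS b' hb' x x.2) hne
    have huR : u ∈ RS := hmem.2 ⟨huX, hG.self S hS c' hc' u huc⟩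
    have h1 := hx ⟨⟨u, huR⟩, huc⟩
    apply hux
    exact congrArg Subtype.val h1
  have htr : ∀ b' ∈ S, b' ∈ MulAction.orbit RS c := by
    intro b' hb'
    by_contra hn
    -- the orbit of `b'`
    have h1 : Nat.card (MulAction.fixedPoints ((c : Subgroup H).subgroupOf RS) (MulAction.orbit RS b')) = 0 := by
      rw [Nat.card_eq_zero]
      left
      constructor
      rintro ⟨x, hx⟩
      apply hn
      have h2 := hfix c hc b' hb' x hx
      have h3 := x.2
      rw [h2] at h3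
      exact MulAction.mem_orbit_symm.1 h3
    have h2 : Nat.card (MulAction.fixedPoints ((b' : Subgroup H).subgroupOf RS) (MulAction.orbit RS b')) = 1 := by
      rw [Nat.card_eq_one_iff_unique]
      refine ⟨⟨?_⟩, ⟨⟨⟨b', MulAction.mem_orbit_self b'⟩, ?_⟩⟩⟩
      · rintro ⟨x, hx⟩ ⟨y, hy⟩
        refine Subtype.ext (Subtype.ext ?_)
        exact (hfix b' hb' b' hb' x hx).trans (hfix b' hb' b' hb' y hy).symm
      · rintro ⟨⟨u, huR⟩, hu⟩
        refine Subtype.ext ?_
        exact smul_self (a := b') hu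
    have h3 := hmod c hc b' hb' _ rfl
    have h4 := hmod b' hb' b' hb' _ rfl
    rw [h1] at h3
    rw [h2] at h4
    have h5 : 0 ≡ 1 [MOD p] := h3.symm.trans h4
    have h6 := (Nat.modEq_iff_dvd' (Nat.zero_le 1)).1 h5
    exact hp.out.one_lt.ne' (Nat.dvd_one.1 h6)
  have h1 : S = MulAction.orbit RS c := Set.Subset.antisymm htr (horbS c hc)
  have h2 : S.ncard ∣ Nat.card X := by
    rw [h1, ← Nat.card_coe_set_eq]
    have h3 : Nat.card (MulAction.orbit RS c) ∣ Nat.card RS := by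
      rw [Nat.card_congr (MulAction.orbitEquivQuotientStabilizer RS c), ← Subgroup.index_eq_card]
      exact Subgroup.index_dvd_card _
    refine h3.trans ?_
    rw [hRS]
    exact Subgroup.card_dvd_of_le inf_le_left
  have h3 := Odd.of_dvd_nat hodd h2
  exact (Nat.not_odd_iff_even.2 (even_panel hG hp2 hS hc)) h3

include hX in
/-- A `p`-element of a normal subgroup of odd order lies in all Sylow `p`-subgroups. -/
theorem mem_of_odd (hG : GSys Pa d) (hp2 : p ≠ 2) (hodd : Odd (Nat.card X)) {r : H} (hr : r ∈ X)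
    {a : Sylow p H} (hra : r ∈ a) (b : Sylow p H) : r ∈ b := by
  induction hn : d a b using Nat.strong_induction_on generalizing b with
  | _ n ih =>
    by_cases hab : a = b
    · rw [← hab]; exact hra
    obtain ⟨S, hS, hbS, c, hc, hg, hne, hlt⟩ := hG.desc a b hab
    have h1 := ih _ (by rw [← hn]; exact hlt) c rfl
    have h2 := hG.self S hS c hc r h1
    exact mem_of_smul_eq h1 (smul_eq_of_odd hG hp2 hodd hS hr h1 h2 hbS)

end

end Cfsg.Agent.H31.OddGate
end

-- part: FixBN/CompA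
section
/-!
Components of the centraliser of an involutory automorphism and good residues, part A.

* `IsC t p L` : the abstract properties of a component `L` of the centraliser, of type `SL₂` or `PSL₂` in
  characteristic `p`;
* `Tw.P_syl` : the groups `P Q` are Sylow subgroups of the centraliser;
* `IsC.exists_pan` : there is a panel `T` such that `L` stabilises `Res T y` and moves a good residue of it.
-/

set_option autoImplicit false
set_option linter.unusedSectionVars false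

open scoped Pointwise

namespace Cfsg.Agent.FixBN

open Cfsg.Agent.Tits.Core Cfsg.Agent.Tits.Core.Bldg Cfsg.Agent.Tits.Exchange Cfsg.Agent.Tits
open Cfsg.Agent.FixBN.Cox Cfsg.Agent.FixBN.SylSub

variable {I : Type*} {M : CoxeterMatrix I} {W : Type*} [Group W] {cs : CoxeterSystem M W} {C : Type*}

local prefix:100 "ℓ" => cs.length

variable {Δ : Bldg cs C} {G : Type*} [Group G] [MulAction G C] {p : ℕ} {t : Tw Δ G}

/-- The abstract properties of a component `L` of the centraliser of `t`, of type `SL₂(p^n)` or `PSL₂(p^n)`. -/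
structure IsC (t : Tw Δ G) (p : ℕ) (L : Subgroup G) : Prop where
  le : L ≤ t.cent
  sub : (L.subgroupOf t.cent).IsSubnormal
  pcomm : ∀ H : Subgroup G, L ≤ H → H ≤ t.cent → ∀ O : Subgroup G, O ≤ H →
    (∀ h ∈ H, ∀ o ∈ O, h * o * h⁻¹ ∈ O) → IsPGroup p O → ∀ l ∈ L, ∀ o ∈ O, l * o = o * l
  disj : ∀ g ∈ t.cent, MulAut.conj g • L = L ∨ ∀ l ∈ L, ∀ l' ∈ MulAut.conj g • L, l * l' = l' * l
  perf : ∀ N : Subgroup G, N ≤ L → (∀ l ∈ L, ∀ x ∈ N, l * x * l⁻¹ ∈ N) → (∃ k : ℕ, N.relIndex L = p ^ k) → N = L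
  two : ∀ A, Syl p L A → ∃ l ∈ L, MulAut.conj l • A ≠ A
  trans : ∀ A A₁ A₂, Syl p L A → Syl p L A₁ → Syl p L A₂ → A₁ ≠ A → A₂ ≠ A →
    ∃ a ∈ A, MulAut.conj a • A₁ = A₂
  gen : ∀ A A', Syl p L A → Syl p L A' → A ≠ A' → A ⊔ A' = L
  cen : ∀ A, Syl p L A → ∀ a ∈ A, (∀ l ∈ L, a * l = l * a) → a = 1

variable [F : OppRes.Cox cs] [Finite G] [hp : Fact p.Prime] [Finite C]

namespace Tw

/-- The groups `P Q` are Sylow `p`-subgroups of the centraliser. -/
theorem P_syl (S : Sys Δ G p) (hth : Δ.Thick) (hp2 : p ≠ 2) {J : Set I} {x : C} (h : t.Gd J x) :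
    Syl p t.cent (t.P S (Δ.Res J x)) := by
  refine Syl.of_max inf_le_left (P_isP S ⟨x, Δ.self_mem_Res _ _⟩) fun V hV hVp => ?_
  obtain ⟨K, z, hgz, hle⟩ := exists_P S hth hV hVp
  rw [card_P_const S hth hp2 hgz h]
  exact Subgroup.card_le_of_le hle

end Tw

open Tw

namespace IsC

variable {L : Subgroup G} (hL : IsC t p L) (S : Sys Δ G p) (hth : Δ.Thick) (hp2 : p ≠ 2)

include hL hth hp2

theorem syl {J : Set I} {x : C} (h : t.Gd J x) : Syl p L (L ⊓ t.P S (Δ.Res J x)) :=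
  Syl.inf hL.le hL.sub (P_syl S hth hp2 h)

end IsC

end Cfsg.Agent.FixBN
end

-- part: H31/OddNFP
section
/-!
# The fixed points of an involutory automorphism in the normal form (for helper286, ODD-3)

`exists_nf` : every involutory automorphism `x` of a simple group with a root group datum of odd characteristic `p` is, up
to an inner automorphism, an automorphism `x'` in the normal form `NF` with set `J`; moreover
(1) every `p`-subgroup of `C_K(x')` is conjugate in `C_K(x')` to a subgroup of the unipotent radical `V_J`;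
(2) a normal subgroup of odd order of `C_K(x')` contains no nontrivial `p`-element.
-/

set_option autoImplicit false
set_option linter.unusedSectionVars false

open scoped Pointwise

namespace Cfsg.Agent.H31.OddNFP

open CoxeterSystem Cfsg.Agent.ChevalleyStructure.CoxeterGeom Cfsg.Agent.Tits.Roots Cfsg.Agent.Tits.Core
  Cfsg.Agent.Tits.RootComb Cfsg.Agent.Nodes.Comb Cfsg.Agent.Nodes.Reps Cfsg.Agent.Nodes.BNOf Cfsg.Agent.Nodes.BNOf.RGD
  Cfsg.Agent.FixBN Cfsg.Agent.Tits.OfBN Cfsg.Agent.Tits.OppRes Cfsg.Agent.LieExceptional.BNPairCore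
  Cfsg.Agent.OddHalf.Table.AutBldg Cfsg.Agent.OddHalf.Table.AutRGD Cfsg.Agent.OddHalf.Table.AutNorm
  Cfsg.Agent.Tits Cfsg.Agent.Nodes.RGDLib Cfsg.Agent.UGT.U2.FOne
open Cfsg.Agent.Tits.Core.Bldg
open Cfsg.Agent.FixBN.Cox (Par Ad)
open Cfsg.Agent.Tits.Exchange (exists_isLongest)

variable {I W K : Type*} [Fintype I] [DecidableEq I] [Group W] [Group K] {M : CoxeterMatrix I}
  {cs : CoxeterSystem M W} {A : I → I → ℤ} {h : IsCartan M A} {T : Subgroup K} {n : I → K}
  {X : (I → ℤ) → Subgroup K} [Finite W] [Finite K]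

/-- The conclusion (1): the `p`-subgroups of `C_K(x)` are conjugate in `C_K(x)` to subgroups of `V`. -/
def SylIn (p : ℕ) (x : MulAut K) (V : Subgroup K) : Prop :=
  ∀ Q : Subgroup K, IsPGroup p Q → (∀ u ∈ Q, x u = u) → ∃ k, x k = k ∧ ∀ u ∈ Q, k * u * k⁻¹ ∈ V

/-- The conclusion (2): no `p`-part in the normal subgroups of odd order of `C_K(x)`. -/
def NoOddP (p : ℕ) (x : MulAut K) : Prop :=
  ∀ R : Subgroup K, (∀ u ∈ R, x u = u) → (∀ u ∈ R, ∀ k, x k = k → k * u * k⁻¹ ∈ R) → Odd (Nat.card R) →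
    ∀ u ∈ R, (∃ m : ℕ, u ^ p ^ m = 1) → u = 1

section Tp

variable {p : ℕ} [hp : Fact p.Prime] (R : RGD cs h p T n X) (hgen : B cs h T X ⊔ NN cs R.nsys = ⊤)
  [hN : (((R.bnPair hgen).B ⊓ (R.bnPair hgen).N).subgroupOf (R.bnPair hgen).N).Normal]
  (cs' : CoxeterSystem M (WP (R.bnPair hgen)))
  (hcs : ∀ i, cs'.simple i = QuotientGroup.mk
    (⟨(eS R hgen i : K), (R.bnPair hgen).subset (eS R hgen i).2⟩ : (R.bnPair hgen).N))
  (hcore : (B cs h T X).normalCore = ⊥)

/-- `O_p` of the standard parabolic: the radical of the residue is contained in `V_J`. -/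
theorem UR_le_VJ {J : Set I} {u : K}
    (hu : u ∈ (Sy R hgen cs' hcs hcore).UR ((Bl R hgen cs' hcs).Res J (ch R hgen 1))) :
    u ∈ Nodes.LeviDec.VJ cs h X J := by
  have h1 : u ∈ Sup X (Pos cs h) := by
    have := (mem_Sy R hgen cs' hcs hcore).1 (hu (ch R hgen 1) (Bldg.self_mem_Res _ _ _))
    simpa using this
  obtain ⟨u1, hu1, v, hv, rfl⟩ := (Nodes.LeviDec.mem_U_iff R (J := J)).1 h1
  obtain ⟨wj, hwj⟩ := exists_isLongest cs J
  obtain ⟨kJ, hkJ⟩ := exists_rp cs R.nsys wj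
  have h2 : ch R hgen kJ⁻¹ ∈ (Bl R hgen cs' hcs).Res J (ch R hgen 1) := by
    rw [mem_Res, δ_rp R hgen cs' hcs rp_one hkJ.inv, inv_one, one_mul]
    exact fw_mem_WJ cs cs' (inv_mem hwj.1)
  have h3 := (mem_Sy R hgen cs' hcs hcore).1 (hu _ h2)
  rw [inv_inv] at h3
  have hkL : kJ ∈ Nodes.Bruhat.LJ cs h T X J := Nodes.Bruhat.rp_mem_LJ R hwj.1 hkJ
  have hv' : kJ * v * kJ⁻¹ ∈ Nodes.LeviDec.VJ cs h X J :=
    (Subgroup.mem_normalizer_iff.1 (Nodes.LeviDec.LJ_le_normalizer_VJ R J hkL) v).1 hv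
  have h4 : kJ * u1 * kJ⁻¹ ∈ Sup X (Pos cs h) := by
    have e : kJ * u1 * kJ⁻¹ = (kJ * (u1 * v) * kJ⁻¹) * (kJ * v * kJ⁻¹)⁻¹ := by group
    rw [e]
    exact mul_mem h3 (inv_mem (Nodes.LeviDec.VJ_le_U J hv'))
  have h5 : kJ * u1 * kJ⁻¹ ∈ Nodes.OppDec.BN cs h T X := by
    have h1' : cj kJ (Nodes.Bruhat.UJ cs h X J) ≤ Nodes.OppDec.UN cs h X := by
      refine Nodes.Bruhat.cj_Sup_le R hkJ (fun x hx => hx.1) fun x hx => ?_
      exact ⟨hx.1.act _, Nodes.StabComb.rep_longest_nonpos hwj hx⟩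
    exact Nodes.OppDec.UN_le_BN (h1' (conj_mem_cj.2 hu1))
  have h6 := Nodes.OppDec.eq_one_of_mem_U_of_mem_BN R h4 h5
  have h7 : u1 = 1 := by
    have e : u1 = kJ⁻¹ * (kJ * u1 * kJ⁻¹) * kJ := by group
    rw [e, h6]; group
  rw [h7, one_mul]
  exact hv

include hp hcore in
/-- Sylow subgroups of the centraliser and the radical of a good residue. -/
theorem sylIn_of_gd (hp2 : p ≠ 2) (t : Tw (Bl R hgen cs' hcs) K) {J : Set I}
    (hgd : t.Gd J (ch R hgen 1)) : SylIn p (t.τ : MulAut K) (Nodes.LeviDec.VJ cs h X J) := by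
  have hW : Finite (WP (R.bnPair hgen)) := inferInstance
  have hC' : Cox cs' := inferInstance
  have hth : (Bl R hgen cs' hcs).Thick := thick (R.bnPair hgen) (eS R hgen) cs' hcs
  intro Q hQ hQx
  have hP := Tw.P_syl (Sy R hgen cs' hcs hcore) hth hp2 hgd
  have hQc : Q ≤ t.cent := fun u hu => hQx u hu
  obtain ⟨A', hA', hle⟩ := SylSub.exists_le hQc hQ
  obtain ⟨l, hl, hlA⟩ := hA'.exists_conj hP
  refine ⟨l, hl, fun u hu => ?_⟩
  have h1 := SylSub.conj_mem_smul (g := l) (hle hu)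
  rw [hlA] at h1
  exact UR_le_VJ R hgen cs' hcs hcore h1.2

include hp hcore in
/-- No `p`-part in the normal subgroups of odd order. -/
theorem noOddP_of_gd (hp2 : p ≠ 2) (t : Tw (Bl R hgen cs' hcs) K) {J L : Set I} {c e : K ⧸ (R.bnPair hgen).B}
    (hopp : (Bl R hgen cs' hcs).δ c e = w0 cs') (hgd : t.Gd J c) (hgdL : t.Gd L e) :
    NoOddP p (t.τ : MulAut K) := by
  have hW : Finite (WP (R.bnPair hgen)) := inferInstance
  have hC' : Cox cs' := inferInstance
  have hth : (Bl R hgen cs' hcs).Thick := thick (R.bnPair hgen) (eS R hgen) cs' hcs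
  obtain ⟨S, hSdef⟩ : ∃ S, S = Sy R hgen cs' hcs hcore := ⟨_, rfl⟩
  intro Q hQx hQn hodd u hu hup
  have hQc : Q ≤ t.cent := fun u hu => hQx u hu
  obtain ⟨u', hu'⟩ : ∃ u' : ↥t.cent, (u' : K) = u := ⟨⟨u, hQc hu⟩, rfl⟩
  have hXn : (Q.subgroupOf t.cent).Normal := by
    refine ⟨fun a ha g => ?_⟩
    exact hQn _ ha g g.2
  have hXodd : Odd (Nat.card ↥(Q.subgroupOf t.cent)) := by
    rw [SylSub.card_subgroupOf hQc]
    exact hodd
  have hPu : IsPGroup p (Subgroup.zpowers u') := by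
    obtain ⟨m, hm⟩ := hup
    have h1 : u' ^ p ^ m = 1 := Subtype.ext (by rw [Subgroup.coe_pow, hu', hm]; rfl)
    rw [← hu'] at *
    intro ⟨y, hy⟩
    obtain ⟨i, rfl⟩ := Subgroup.mem_zpowers_iff.1 hy
    refine ⟨m, Subtype.ext ?_⟩
    change (u' ^ i) ^ p ^ m = 1
    rw [← zpow_natCast, ← zpow_mul, mul_comm, zpow_mul, zpow_natCast, h1, one_zpow]
  obtain ⟨a, ha⟩ := hPu.exists_le_sylow
  have hua : u' ∈ a := ha (Subgroup.mem_zpowers u')
  have hG := Tw.gsys (t := t) S hth hp2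
  have hall : ∀ b : Sylow p ↥t.cent, u' ∈ b := fun b =>
    H31.OddGate.mem_of_odd (X := Q.subgroupOf t.cent) hG hp2 hXodd
      (show u' ∈ Q.subgroupOf t.cent from Subgroup.mem_subgroupOf.2 (by rw [hu']; exact hu)) hua b
  obtain ⟨a1, ha1⟩ := Tw.rep_exists S hth hp2 hgd
  obtain ⟨a2, ha2⟩ := Tw.rep_exists S hth hp2 hgdL
  have h1 := (ha1 u').1 (hall a1) c (Bldg.self_mem_Res _ _ _)
  have h2 := (ha2 u').1 (hall a2) e (Bldg.self_mem_Res _ _ _)
  rw [← hu']
  exact S.free c e hopp _ h1 (S.fix e _ h2)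

include R hgen cs' hcs hcore in
theorem exists_nf_tp (hp2 : p ≠ 2) (hG : G1 cs h X = ⊤) (x : MulAut K) (hxx : ∀ g, x (x g) = g) (hx1 : x ≠ 1) :
    ∃ (k : K) (x' : MulAut K) (φ : W ≃* W) (σ : I → I) (J : Set I) (g : K),
      MulAut.congr (MulAut.conj k) x' = x ∧ NF cs h p T n X x' 1 φ σ J g ∧
      SylIn p x' (Nodes.LeviDec.VJ cs h X J) ∧ NoOddP p x' := by
  have hS : Split (R.bnPair hgen) p (Sup X (Pos cs h)) := SplitRGD.split_of_rgd hp.out R hgen hcore
  have hW : Finite (WP (R.bnPair hgen)) := inferInstance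
  have hC : Cox cs := inferInstance
  have hC' : Cox cs' := inferInstance
  have hth : (Bl R hgen cs' hcs).Thick := thick (R.bnPair hgen) (eS R hgen) cs' hcs
  obtain ⟨S, hSdef⟩ : ∃ S, S = Sy R hgen cs' hcs hcore := ⟨_, rfl⟩
  have hne : Nonempty (K ⧸ (R.bnPair hgen).B) := ⟨ch R hgen 1⟩
  obtain ⟨t, ht⟩ := TwOfBN.exists_tw hS (eS R hgen) cs' hcs x hxx
  -- the two residues
  obtain ⟨J, L, b, c, e, hc, had, he, hce, hb, -, -⟩ := exists_apt S hth hp2 t
  obtain ⟨m0, hm0⟩ := exists_rp cs R.nsys (w0 cs)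
  have hopp : (Bl R hgen cs' hcs).Opp (ch R hgen 1) (ch R hgen m0) := by
    change (Bl R hgen cs' hcs).δ _ _ = w0 cs'
    rw [δ_rp R hgen cs' hcs rp_one hm0, inv_one, one_mul, fw_w0 R hgen cs']
  have hopp' : (Bl R hgen cs' hcs).Opp c e := hce.trans had.long
  obtain ⟨k, hk1, hk2⟩ := exists_pos S hopp hopp' (by
    induction c using QuotientGroup.induction_on with
    | _ a => exact ⟨a, by rw [smul_ch, mul_one]⟩)
  obtain ⟨t', ht'⟩ : ∃ t', t' = twCj S k t := ⟨_, rfl⟩
  obtain ⟨m', hm'⟩ : ∃ m' : Mv (Bl R hgen cs' hcs) K, m' = Mv.one _ _ := ⟨_, rfl⟩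
  have hmτ : ∀ g, m'.τ g = g := by rw [hm']; exact fun _ => rfl
  have hmθ : ∀ c, m'.θ c = c := by rw [hm']; exact fun _ => rfl
  have hmφ : ∀ w, m'.φ w = w := by rw [hm']; exact fun _ => rfl
  have hcd' : Cd t' m' p := by
    refine Cd.mk' S hth hmφ ?_ ?_ ⟨1, odd_one, ?_⟩
    · intro g
      rw [hmτ, hmτ]
    · intro v _ _
      rw [hmτ]
    · intro g
      rw [Function.iterate_one, hmτ]
  have hgd : t'.Gd J (ch R hgen 1) := by
    rw [ht']
    exact gd_twCj S k (by rw [hk1]; exact hc)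
  have hgdL : t'.Gd L (ch R hgen m0) := by
    rw [ht']
    exact gd_twCj S k (by rw [hk2]; exact he)
  have hx' : MulAut.congr (MulAut.conj k) t'.τ = x := by
    ext g
    change k * t'.τ (k⁻¹ * g * k) * k⁻¹ = x g
    rw [ht', twCj_τ, ht]
    have h1 : k * (k⁻¹ * g * k) * k⁻¹ = g := by group
    rw [h1]
    group
  have hm1 : (m'.τ : MulAut K) = 1 := MulEquiv.ext hmτ
  obtain ⟨g, hg⟩ := nf_core R hgen cs' hcs hcore hG t' m' hcd' (by
      by_contra hcon
      push Not at hcon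
      apply hx1
      rw [← hx']
      have h1 : (t'.τ : MulAut K) = 1 := MulEquiv.ext hcon
      rw [h1, map_one]) (by rw [hm1, orderOf_one]; exact odd_one) hm0 hgd (by rw [ht']; exact had) hgdL (by
      rw [ht', twCj_θ, hk1, ← hb, ← hk2]
      have h1 := S.iso k (k⁻¹ • t.θ c) (ch R hgen m0)
      rw [smul_inv_smul] at h1
      exact h1.symm) (by rw [hmθ]) (by rw [hmθ])
  rw [hm1] at hg
  exact ⟨k, t'.τ, _, _, _, g, hx', hg, sylIn_of_gd R hgen cs' hcs hcore hp2 t' hgd,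
    noOddP_of_gd R hgen cs' hcs hcore hp2 t' hopp hgd hgdL⟩

end Tp

/-- **The normal form of an involutory automorphism**, with the Sylow `p`-subgroup of its fixed points. -/
theorem exists_nf [hs : IsSimpleGroup K] {p : ℕ} [hp : Fact p.Prime] (hp2 : p ≠ 2)
    (R : RGD cs h p T n X) (hG : G1 cs h X = ⊤) (x : MulAut K) (hxx : ∀ g, x (x g) = g) (hx1 : x ≠ 1) :
    ∃ (k : K) (x' : MulAut K) (φ : W ≃* W) (σ : I → I) (J : Set I) (g : K),
      MulAut.congr (MulAut.conj k) x' = x ∧ NF cs h p T n X x' 1 φ σ J g ∧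
      (∀ Q : Subgroup K, IsPGroup p Q → (∀ u ∈ Q, x' u = u) →
        ∃ k, x' k = k ∧ ∀ u ∈ Q, k * u * k⁻¹ ∈ Nodes.LeviDec.VJ cs h X J) ∧
      (∀ R : Subgroup K, (∀ u ∈ R, x' u = u) → (∀ u ∈ R, ∀ k, x' k = k → k * u * k⁻¹ ∈ R) →
        Odd (Nat.card R) → ∀ u ∈ R, (∃ m : ℕ, u ^ p ^ m = 1) → u = 1) := by
  have hI := nonempty_of_G1 hG
  have hgen := rgd_gen_of_G1 R hG
  have hcore : (B cs h T X).normalCore = ⊥ :=
    Cfsg.Agent.Tits.OfBN.normalCore_eq_bot (R.bnPair hgen) ⟨n hI.some, hI.some, rfl⟩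
  obtain ⟨hN, cs', hcs, hW, hS⟩ := exists_setup R hgen hcore
  exact exists_nf_tp R hgen cs' hcs hcore hp2 hG x hxx hx1

end Cfsg.Agent.H31.OddNFP
end
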